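import Groth.Agent.FEtExtUnique.Main
import Groth.Agent.FEtRegExt.Main
import Groth.Agent.PropPi1.Surj
import Groth.Agent.PurePairDesc.Main
import Groth.Agent.CohenRingLib.Basic
import Groth.Prelude.Def_FEt
import Mathlib.AlgebraicGeometry.ValuativeCriterion

/-!
# Birational invariance of finite etale covers of proper regular schemes
-/

set_option autoImplicit false
set_option backward.isDefEq.respectTransparency false
set_option backward.defeqAttrib.useBackward true

universe u
open CategoryTheory CategoryTheory.Limits AlgebraicGeometry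

noncomputable section

namespace Groth.Agent.FEtBirat

/-- Two fully faithful functors with the same essential image differ by an equivalence. -/
theorem exists_equiv_of_essImage {C C' E : Type*} [Category C] [Category C'] [Category E]
    (F : C ⥤ E) (G : C' ⥤ E) [F.Full] [F.Faithful] [G.Full] [G.Faithful]
    (h1 : ∀ X, G.essImage (F.obj X)) (h2 : ∀ X, F.essImage (G.obj X)) :
    ∃ Φ : C ≌ C', Nonempty (F ≅ Φ.functor ⋙ G) := by
  let L : C ⥤ G.EssImageSubcategory := G.essImage.lift F h1
  haveI : L.EssSurj := ⟨fun ⟨e, X', ⟨i⟩⟩ => by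
    obtain ⟨X, ⟨j⟩⟩ := h2 X'
    exact ⟨X, ⟨ObjectProperty.isoMk _ (j ≪≫ i)⟩⟩⟩
  haveI : L.Full := ⟨fun {X Y} f => ⟨F.preimage f.hom, ObjectProperty.hom_ext _ (F.map_preimage _)⟩⟩
  haveI : L.Faithful := ⟨fun {X Y} f g h => F.map_injective (congrArg (·.hom) h)⟩
  haveI : L.IsEquivalence := {}
  haveI : G.toEssImage.IsEquivalence := {}
  refine ⟨L.asEquivalence.trans G.toEssImage.asEquivalence.symm, ⟨?_⟩⟩
  refine (ObjectProperty.liftCompιIso _ F h1).symm ≪≫ ?_ ≪≫
    Functor.isoWhiskerLeft (L ⋙ G.toEssImage.inv) G.toEssImageCompι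
  exact Functor.isoWhiskerRight (L.rightUnitor.symm ≪≫
    Functor.isoWhiskerLeft L G.toEssImage.asEquivalence.counitIso.symm) _

/-- A regular local ring of dimension one is a valuation ring. -/
theorem valuationRing_of_regular (R : Type u) [CommRing R] [IsRegularLocalRing R]
    (h : ringKrullDim R = 1) : ∃ _ : IsDomain R, IsDiscreteValuationRing R := by
  haveI := (PurityLib.isIntegrallyClosed_of_regular R).1
  obtain ⟨z, hz⟩ := RegLocal.exists_generators (R := R)
  have h1 : (IsLocalRing.maximalIdeal R).spanFinrank = 1 := by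
    have h2 : ((IsLocalRing.maximalIdeal R).spanFinrank : WithBot ℕ∞) = ringKrullDim R :=
      (isRegularLocalRing_iff R).1 inferInstance
    rw [h] at h2
    exact_mod_cast h2
  let i : Fin (IsLocalRing.maximalIdeal R).spanFinrank := ⟨0, by omega⟩
  have hm : IsLocalRing.maximalIdeal R = Ideal.span {z i} := by
    rw [← hz]
    congr 1
    ext a
    constructor
    · rintro ⟨j, rfl⟩
      rw [show j = i from Fin.ext (by have := j.2; simp only [i]; omega)]
      rfl
    · rintro rfl; exact ⟨i, rfl⟩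
  have hne : z i ≠ 0 := by
    intro h0
    rw [h0] at hm
    have hb : IsLocalRing.maximalIdeal R = ⊥ := by rw [hm]; simp
    have hf : IsField R := IsLocalRing.isField_iff_maximalIdeal_eq.mpr hb
    have h3 := ringKrullDim_eq_zero_of_isField hf
    rw [h] at h3
    exact one_ne_zero h3
  obtain ⟨hd, hdvr⟩ := CohenRingLib.isDVR_of_principal_regular hm (mem_nonZeroDivisors_of_ne_zero hne)
  exact ⟨hd, hdvr⟩

/-- The generic point of a discrete valuation ring is open. -/
theorem isOpenImmersion_generic (R : Type u) [CommRing R] [IsDomain R] [IsDiscreteValuationRing R] :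
    IsOpenImmersion (Spec.map (CommRingCat.ofHom (algebraMap R (FractionRing R)))) := by
  obtain ⟨π, hπ⟩ := IsDiscreteValuationRing.exists_irreducible R
  have hinj : Function.Injective (algebraMap R (FractionRing R)) := IsFractionRing.injective R _
  haveI : IsLocalization.Away π (FractionRing R) := by
    constructor
    constructor
    · rintro ⟨_, n, rfl⟩
      exact IsUnit.mk0 _ fun h => pow_ne_zero n hπ.ne_zero ((map_eq_zero_iff _ hinj).1 h)
    · intro z
      obtain ⟨⟨a, b⟩, hab⟩ := IsLocalization.surj (nonZeroDivisors R) z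
      obtain ⟨n, u, hb⟩ := IsDiscreteValuationRing.eq_unit_mul_pow_irreducible (nonZeroDivisors.ne_zero b.2) hπ
      simp only [hb] at hab
      refine ⟨⟨a * ↑u⁻¹, ⟨_, n, rfl⟩⟩, ?_⟩
      calc z * algebraMap R (FractionRing R) (π ^ n)
          = z * algebraMap R (FractionRing R) (↑u * π ^ n) * algebraMap R (FractionRing R) ↑u⁻¹ := by
            rw [mul_assoc, ← map_mul, mul_comm (↑u : R), mul_assoc, Units.mul_inv, mul_one]
        _ = algebraMap R (FractionRing R) (a * ↑u⁻¹) := by rw [hab, map_mul]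
    · intro a b h
      exact ⟨1, by rw [hinj h]⟩
  exact IsOpenImmersion.of_isLocalization π

variable {k : Scheme.{u}} {X Y : Scheme.{u}} (f : X ⟶ k) (g : Y ⟶ k) [IsProper g]
  [IsLocallyNoetherian X] (hX : ∀ x : X, IsRegularLocalRing (X.presheaf.stalk x))
  (U : X.Opens) (hU : Dense (U : Set X)) (e : U.toScheme ⟶ Y) (he : e ≫ g = U.ι ≫ f)

include hX hU he in
/-- A rational map to a proper scheme is defined at the points of codimension one. -/
theorem exists_local_map (ξ : X) (hξU : ξ ∉ U) (hξ : ringKrullDim (X.presheaf.stalk ξ) = 1) :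
    ∃ h : Spec (X.presheaf.stalk ξ) ⟶ Y,
      pullback.fst U.ι (X.fromSpecStalk ξ) ≫ e = pullback.snd U.ι (X.fromSpecStalk ξ) ≫ h := by
  haveI := hX ξ
  obtain ⟨hdom, hval⟩ := valuationRing_of_regular (X.presheaf.stalk ξ) hξ
  haveI := hdom
  haveI := hval
  haveI : Ring.KrullDimLE 1 (X.presheaf.stalk ξ) := Ring.krullDimLE_iff.mpr hξ.le
  let R := X.presheaf.stalk ξ
  let K := FractionRing R
  let s : Spec (CommRingCat.of K) ⟶ Spec R := Spec.map (CommRingCat.ofHom (algebraMap R K))
  have hbot : ∀ t : Spec (CommRingCat.of K), (s t : PrimeSpectrum R).asIdeal = ⊥ := by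
    intro t
    change (PrimeSpectrum.comap (algebraMap R K) t).asIdeal = ⊥
    rw [PrimeSpectrum.comap_asIdeal, (Ideal.eq_bot_or_top (t : PrimeSpectrum K).asIdeal).resolve_right
      (t : PrimeSpectrum K).2.ne_top]
    exact Ideal.comap_bot_of_injective _ (IsFractionRing.injective R K)
  have hmax : ∀ t : Spec R, (t : PrimeSpectrum R).asIdeal = ⊥ → X.fromSpecStalk ξ t ∈ U := by
    intro t ht
    refine DimFormulaLib.mem_of_dense U.2 hU fun w hw => ?_
    have hwx : w ∈ Set.range (X.fromSpecStalk ξ) := by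
      rw [Scheme.range_fromSpecStalk]
      have : X.fromSpecStalk ξ t ∈ Set.range (X.fromSpecStalk ξ) := ⟨t, rfl⟩
      rw [Scheme.range_fromSpecStalk] at this
      exact hw.trans this
    obtain ⟨r, rfl⟩ := hwx
    refine congrArg _ (((X.fromSpecStalk ξ).isEmbedding.isInducing.specializes_iff.mp hw).antisymm ?_).eq
    refine (PrimeSpectrum.le_iff_specializes (t : PrimeSpectrum R) r).1 ?_
    rw [← PrimeSpectrum.asIdeal_le_asIdeal, ht]
    exact bot_le
  have hr : Set.range (s ≫ X.fromSpecStalk ξ) ⊆ Set.range U.ι := by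
    rintro _ ⟨t, rfl⟩
    rw [Scheme.Opens.range_ι]
    exact hmax _ (hbot t)
  let a : Spec (CommRingCat.of K) ⟶ U.toScheme := IsOpenImmersion.lift U.ι (s ≫ X.fromSpecStalk ξ) hr
  have ha : a ≫ U.ι = s ≫ X.fromSpecStalk ξ := IsOpenImmersion.lift_fac _ _ _
  have sq : CommSq (a ≫ e) s g (X.fromSpecStalk ξ ≫ f) :=
    ⟨by rw [Category.assoc, he, reassoc_of% ha]⟩
  have hP : IsProper g := ‹_›
  rw [IsProper.eq_valuativeCriterion] at hP
  haveI := ValuativeCriterion.existence hP.1.1.1 ⟨R, K, a ≫ e, X.fromSpecStalk ξ ≫ f, sq⟩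
  refine ⟨sq.lift, ?_⟩
  have hl : s ≫ sq.lift = a ≫ e := sq.fac_left
  let r : Spec (CommRingCat.of K) ⟶ pullback U.ι (X.fromSpecStalk ξ) := pullback.lift a s ha
  haveI : Ring.DimensionLEOne R :=
    ⟨fun {q} hq hp => (Ring.krullDimLE_one_iff_of_noZeroDivisors.mp inferInstance) q hq hp⟩
  haveI : IsOpenImmersion s := isOpenImmersion_generic R
  haveI : IsOpenImmersion (r ≫ pullback.snd U.ι (X.fromSpecStalk ξ)) := by
    rw [pullback.lift_snd]; infer_instance
  haveI : IsOpenImmersion r := IsOpenImmersion.of_comp r (pullback.snd U.ι (X.fromSpecStalk ξ))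
  haveI : Surjective r := ⟨fun z => by
    have hzU : X.fromSpecStalk ξ (pullback.snd U.ι (X.fromSpecStalk ξ) z) ∈ U := by
      rw [← Scheme.Hom.comp_apply, ← pullback.condition, Scheme.Hom.comp_apply]
      exact (pullback.fst U.ι (X.fromSpecStalk ξ) z).2
    have ht : (pullback.snd U.ι (X.fromSpecStalk ξ) z : PrimeSpectrum R).asIdeal = ⊥ := by
      by_contra ht
      haveI := (pullback.snd U.ι (X.fromSpecStalk ξ) z : PrimeSpectrum R).2.isMaximal ht
      rw [show pullback.snd U.ι (X.fromSpecStalk ξ) z = IsLocalRing.closedPoint R from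
        PrimeSpectrum.ext (IsLocalRing.eq_maximalIdeal this), Scheme.fromSpecStalk_closedPoint] at hzU
      exact hξU hzU
    obtain ⟨t⟩ := (inferInstance : Nonempty (PrimeSpectrum K))
    refine ⟨t, (pullback.snd U.ι (X.fromSpecStalk ξ)).isOpenEmbedding.injective ?_⟩
    rw [← Scheme.Hom.comp_apply, pullback.lift_snd]
    exact PrimeSpectrum.ext ((hbot t).trans ht.symm)⟩
  haveI : IsIso r := (isIso_iff_isOpenImmersion_and_surjective r).mpr ⟨inferInstance, inferInstance⟩
  rw [← cancel_epi r, pullback.lift_fst_assoc, pullback.lift_snd_assoc]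
  exact hl.symm

include hX hU he in
/-- Covers pulled back along a rational map to a proper scheme extend. -/
theorem exists_extension (E : FEt.Cat Y) :
    ∃ E' : FEt.Cat X, Nonempty ((FEt.restrict U.ι).obj E' ≅ (FEt.restrict e).obj E) := by
  refine FEtRegExt.exists_extension_global U hU _ (fun x _ => hX x) fun ξ hξU hξ => ?_
  obtain ⟨h, hh⟩ := exists_local_map f g hX U hU e he ξ hξU hξ
  refine ⟨(FEt.restrict h).obj E, ⟨?_⟩⟩
  exact (PropPi1.restrictCompIso _ h).symm.app E ≪≫
    (eqToIso (by rw [hh])) ≪≫ (PropPi1.restrictCompIso _ e).app E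

/-- Proper regular schemes sharing a dense open have equivalent finite etale covers. -/
theorem equiv_of_birational {k X Y : Scheme.{u}} (f : X ⟶ k) (g : Y ⟶ k) [IsProper f] [IsProper g]
    [IsLocallyNoetherian X] [IsLocallyNoetherian Y]
    (hX : ∀ x : X, IsRegularLocalRing (X.presheaf.stalk x))
    (hY : ∀ y : Y, IsRegularLocalRing (Y.presheaf.stalk y))
    (U : X.Opens) (V : Y.Opens) (hU : Dense (U : Set X)) (hV : Dense (V : Set Y))
    (e : U.toScheme ≅ V.toScheme) (he : e.hom ≫ V.ι ≫ g = U.ι ≫ f) :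
    ∃ Φ : FEt.Cat X ≌ FEt.Cat Y,
      Nonempty (FEt.restrict U.ι ≅ Φ.functor ⋙ FEt.restrict V.ι ⋙ FEt.restrict e.hom) := by
  obtain ⟨_, _⟩ := FEtExtUnique.fullyFaithful_restrict U hU fun x _ => hX x
  obtain ⟨_, _⟩ := FEtExtUnique.fullyFaithful_restrict V hV fun y _ => hY y
  haveI := PurePairDesc.isEquivalence_restrict_of_isIso e.hom
  refine exists_equiv_of_essImage (FEt.restrict U.ι) (FEt.restrict V.ι ⋙ FEt.restrict e.hom) ?_ ?_
  · intro E
    obtain ⟨E', ⟨i⟩⟩ := exists_extension g f hY V hV (e.inv ≫ U.ι)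
      (by rw [Category.assoc, ← he, Iso.inv_hom_id_assoc]) E
    refine ⟨E', ⟨?_⟩⟩
    refine (FEt.restrict e.hom).mapIso i ≪≫ (PropPi1.restrictCompIso e.hom (e.inv ≫ U.ι)).symm.app E ≪≫
      eqToIso ?_
    rw [Iso.hom_inv_id_assoc]
  · intro E
    obtain ⟨E', ⟨i⟩⟩ := exists_extension f g hX U hU (e.hom ≫ V.ι) (by rw [Category.assoc, he]) E
    exact ⟨E', ⟨i ≪≫ (PropPi1.restrictCompIso e.hom V.ι).app E⟩⟩

end Groth.Agent.FEtBirat
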